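import Cfsg.Agent.Lib.U62Rec.Red.Defs

/-!
With a fixed plane at an involution, the involution commutes with no other conjugate of itself.
-/

set_option autoImplicit false
set_option linter.style.haveILetI false
set_option linter.unusedSectionVars false

namespace Cfsg.Agent.U62Rec.Red

open Subgroup LargeExtra
open scoped commutatorElement

variable {G : Type*} [Group G] [Finite G] {z₀ z x : G}

/-- The conjugates of an element. -/
def cls (z₀ : G) : Set G := {a | ∃ g : G, g * z₀ * g⁻¹ = a}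

theorem cls_conj (h : x ∈ cls z₀) (g : G) : g * x * g⁻¹ ∈ cls z₀ := by
  obtain ⟨k, rfl⟩ := h
  exact ⟨g * k, by group⟩

/-- The facts at a member of the class. -/
noncomputable def atMem (R : Red z₀) (h : x ∈ cls z₀) : Red x := h.choose_spec ▸ R.conj h.choose

theorem mem_symm (R : Red z₀) (hz : z ∈ cls z₀) (hx : x ∈ cls z₀) (h : x ∈ coreAt z) (hne : x ≠ z) :
    z ∈ coreAt x := by
  obtain ⟨g, rfl⟩ := hz
  obtain ⟨k, rfl⟩ := hx
  have e : k * z₀ * k⁻¹ = k * g⁻¹ * (g * z₀ * g⁻¹) * (k * g⁻¹)⁻¹ := by group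
  rw [e] at h hne ⊢
  have h1 := ((R.conj g).xs).mem_conj (by rw [(R.conj g).card]; norm_num) h hne
  rwa [← coreAt_conj] at h1

/-- The product of two commuting members outside the cores of each other is a member. -/
theorem star (Rz : Red z) (Rx : Red x) (hz : z ∈ cls z₀) (hc : Commute z x) (hxJ : x ∉ coreAt z) :
    z * x ∈ cls z₀ := by
  by_contra hD
  have hxx := Rx.xs.toXSub.sq
  have hxi := Rx.xs.toXSub.inv_eq
  have hT : ∀ t ∈ Rx.T, Commute t z := by
    intro t ht
    rcases Rx.T_fix t ht z hc.symm with e | e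
    · exact (mul_inv_eq_iff_eq_mul.1 e).symm
    · refine absurd ?_ hD
      have h1 : t⁻¹ * z * t = x * z := by
        have h2 := mul_inv_eq_iff_eq_mul.1 e
        rw [mul_assoc, h2]
        group
      rw [hc.eq, ← h1]
      simpa using cls_conj hz t⁻¹
  obtain ⟨a, haJ, hax, hane⟩ : ∃ a ∈ coreAt z, Commute (a * x * a⁻¹) x ∧ a * x * a⁻¹ ≠ x := by
    obtain ⟨a, ha, hc'⟩ : ∃ a ∈ coreAt z, ⁅x, a⁆ ∉ zpowers z := by
      by_contra h
      push Not at h
      exact hxJ (Rz.faithful x hc h)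
    set c := ⁅x, a⁆ with hcdef
    have hcJ : c ∈ coreAt z := by
      rw [hcdef, commutatorElement_def]
      exact mul_mem (LargeExtra.conj_mem (coreAt_normal z (mem_centralizer_one.2 hc.eq.symm)) ha) (inv_mem ha)
    have hinv : x * c * x = c⁻¹ := by
      rw [hcdef, commutatorElement_def, hxi]
      simp only [mul_inv_rev, inv_inv, hxi, ← mul_assoc, hxx, one_mul]
    rcases Rz.xs.toXSub.sq_cases hcJ with h | h
    · have e : a * x * a⁻¹ = x * c := by
        rw [hcdef, commutatorElement_def, hxi]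
        simp only [← mul_assoc, hxx, one_mul]
      have hci : c⁻¹ = c := inv_eq_of_mul_eq_one_right h
      refine ⟨a, ha, ?_, ?_⟩
      · rw [e]
        show x * c * x = x * (x * c)
        rw [hinv, hci, ← mul_assoc, hxx, one_mul]
      · rw [e]
        exact fun h' => hc' (by rw [mul_eq_left.1 h']; exact one_mem _)
    · have e : c * x * c⁻¹ = z * x := by
        rw [← hinv, ← mul_assoc, ← mul_assoc, mul_assoc c x x, hxx, mul_one, h]
      refine ⟨c, hcJ, ?_, ?_⟩
      · rw [e]; exact hc.mul_left (Commute.refl x)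
      · rw [e]; exact fun h' => Rz.xs.toXSub.ne_one (mul_eq_right.1 h')
  have hax' : Commute x (a⁻¹ * x * a) := by
    have := hax.map (MulAut.conj a⁻¹)
    simpa [mul_assoc] using this
  have hTy : ∀ b ∈ coreAt z, Commute (b * x * b⁻¹) x → ∀ t ∈ Rx.T, Commute t (b * x * b⁻¹) := by
    intro b hb hbx t ht
    rcases Rx.T_fix t ht _ hbx.symm with e | e
    · exact (mul_inv_eq_iff_eq_mul.1 e).symm
    · refine absurd ?_ hxJ
      set j := b * (x * b⁻¹ * x⁻¹) with hj
      have hjJ : j ∈ coreAt z :=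
        mul_mem hb (LargeExtra.conj_mem (coreAt_normal z (mem_centralizer_one.2 hc.eq.symm)) (inv_mem hb))
      have hyj : b * x * b⁻¹ = j * x := by rw [hj]; group
      have htx : x * t * x⁻¹ = t := by
        rw [← (show Commute t x from mem_centralizer_one.1 (coreAt_le x (Rx.T_le ht))).eq, mul_inv_cancel_right]
      have h1 : t⁻¹ * j * (t⁻¹)⁻¹ ∈ coreAt z :=
        LargeExtra.conj_mem (coreAt_normal z (inv_mem (mem_centralizer_one.2 (hT t ht).eq))) hjJ
      have h2 : x = t⁻¹ * j * (t⁻¹)⁻¹ * j⁻¹ := by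
        rw [hyj] at e
        calc x = t⁻¹ * (t * x) := by group
          _ = t⁻¹ * (j * x * t * (j * x)⁻¹) := by rw [e]
          _ = t⁻¹ * j * (x * t * x⁻¹) * j⁻¹ := by group
          _ = t⁻¹ * j * (t⁻¹)⁻¹ * j⁻¹ := by rw [htx, inv_inv]
      rw [h2]
      exact mul_mem h1 (inv_mem hjJ)
  obtain ⟨s, hs, t, ht, hst⟩ := Rx.T_noncomm
  have hsy : Commute s (a * x * a⁻¹) := hTy a haJ hax s hs
  have hty : Commute t (a⁻¹ * x * a) := by
    have := hTy a⁻¹ (inv_mem haJ) (by simpa using hax'.symm) t ht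
    simpa using this
  set t' := a * t * a⁻¹ with ht'
  have hxt' : Commute x t' := by
    have := (hty.symm).map (MulAut.conj a)
    simpa [ht', mul_assoc] using this
  have hσ : Commute x (a⁻¹ * s * a) := by
    have := (hsy.symm).map (MulAut.conj a⁻¹)
    simpa [mul_assoc] using this
  have hcomm : Commute s t' := by
    rcases Rx.T_fix t ht _ hσ with e | e
    · refine mul_inv_eq_iff_eq_mul.1 (?_ : s * t' * s⁻¹ = t')
      calc s * t' * s⁻¹ = a * (a⁻¹ * s * a * t * (a⁻¹ * s * a)⁻¹) * a⁻¹ := by rw [ht']; group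
        _ = t' := by rw [e]
    · have e1 : s * t' * s⁻¹ = t' * (a * x * a⁻¹) := by
        calc s * t' * s⁻¹ = a * (a⁻¹ * s * a * t * (a⁻¹ * s * a)⁻¹) * a⁻¹ := by rw [ht']; group
          _ = t' * (a * x * a⁻¹) := by rw [e, ht']; group
      rcases Rx.T_fix s hs t' hxt' with e' | e'
      · exact (mul_inv_eq_iff_eq_mul.1 e').symm
      · refine absurd ?_ hane
        have hsx : Commute x s := (mem_centralizer_one.1 (coreAt_le x (Rx.T_le hs)) : s * x = x * s).symm
        have e2 : s * t' * s⁻¹ = t' * x := by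
          have h1 : t' * s = s * x * t' := mul_inv_eq_iff_eq_mul.1 e'
          calc s * t' * s⁻¹ = x⁻¹ * (s * x * t') * s⁻¹ := by
                rw [← mul_assoc x⁻¹, ← mul_assoc x⁻¹, ← hsx.inv_left.symm.eq, mul_assoc s x⁻¹ x,
                  inv_mul_cancel, mul_one]
            _ = x * t' := by rw [← h1, hxi]; group
            _ = t' * x := hxt'.eq
        exact mul_left_cancel (e1.symm.trans e2)
  apply hxJ
  set j := t⁻¹ * a * (t⁻¹)⁻¹ * a⁻¹ with hj
  have hjJ : j ∈ coreAt z :=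
    mul_mem (LargeExtra.conj_mem (coreAt_normal z (inv_mem (mem_centralizer_one.2 (hT t ht).eq))) haJ) (inv_mem haJ)
  have e : t' = t * j := by rw [hj, ht']; group
  have hsj : s * j * s⁻¹ ∈ coreAt z :=
    LargeExtra.conj_mem (coreAt_normal z (mem_centralizer_one.2 (hT s hs).eq)) hjJ
  have h1 : t * j = t * x * (s * j * s⁻¹) := by
    rw [← hst, show s * t * s⁻¹ * (s * j * s⁻¹) = s * (t * j) * s⁻¹ by group, ← e, hcomm.eq, mul_inv_cancel_right]
  rw [mul_assoc] at h1
  rw [show x = j * (s * j * s⁻¹)⁻¹ from eq_mul_inv_of_mul_eq (mul_left_cancel h1).symm]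
  exact mul_mem hjJ (inv_mem hsj)

/-- An involution of the core commuting with `T` and outside it is no member. -/
theorem not_perp (Rz : Red z) (Rx : Red x) (hx : x ∈ coreAt z) (hzx : z ∈ coreAt x) (hne : x ≠ z)
    (hxT : x ∉ Rz.T) (hperp : ∀ t ∈ Rz.T, Commute t x) : False := by
  obtain ⟨r, hzr, hxr, h5, h1⟩ := Rz.five x hx hxT Rx.xs.toXSub.sq hperp
  set K := coreAt x ⊓ centralizer ({r} : Set G) with hK
  set W := K ⊓ centralizer ({z} : Set G) with hW
  have hK32 : 32 ≤ Nat.card K := Rx.five_fix r hxr h5 h1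
  have hle : Nat.card K ≤ Nat.card W * 2 := by
    classical
    by_cases hall : K ≤ W
    · exact (card_le_of_le hall).trans (Nat.le_mul_of_pos_right _ (by norm_num))
    · obtain ⟨k₀, hk₀, hk₀W⟩ := SetLike.not_le_iff_exists.1 hall
      have hk₀z : k₀ ∉ centralizer ({z} : Set G) := fun h => hk₀W ⟨hk₀, h⟩
      have hmv : ∀ k ∈ K, k ∉ centralizer ({z} : Set G) → k * z * k⁻¹ = z * x := fun k hk hkz =>
        (Rx.xs.toXSub.conj_cases hk.1 hzx).resolve_left fun h =>
          hkz (mem_centralizer_one.2 (mul_inv_eq_iff_eq_mul.1 h))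
      have hmem : ∀ k ∈ K, k ∉ centralizer ({z} : Set G) → k₀⁻¹ * k ∈ W := fun k hk hkz => by
        refine ⟨(mul_mem (inv_mem hk₀) hk : k₀⁻¹ * k ∈ K), mem_centralizer_one.2 (mul_inv_eq_iff_eq_mul.1 ?_)⟩
        rw [show k₀⁻¹ * k * z * (k₀⁻¹ * k)⁻¹ = k₀⁻¹ * (k * z * k⁻¹) * k₀ by group, hmv k hk hkz,
          ← hmv k₀ hk₀ hk₀z]
        group
      let f : ↥K → ↥W × Bool := fun k =>
        if h : (k : G) ∈ centralizer ({z} : Set G) then (⟨k, k.2, h⟩, false)
        else (⟨k₀⁻¹ * k, hmem k k.2 h⟩, true)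
      refine (Nat.card_le_card_of_injective f fun a b h => ?_).trans_eq (by simp)
      have h1 := congrArg (fun p : ↥W × Bool => (p.1 : G)) h
      have h2 := congrArg Prod.snd h
      by_cases ha : (a : G) ∈ centralizer ({z} : Set G) <;> by_cases hb : (b : G) ∈ centralizer ({z} : Set G) <;>
        simp only [f, ha, hb, dite_true, dite_false, Bool.false_eq_true, Bool.true_eq_false] at h1 h2
      · exact Subtype.ext h1
      · exact Subtype.ext (mul_left_cancel h1)
  have hWJ : W ≤ coreAt z := fun e he => by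
    refine Rz.five_triv x hx hxT Rx.xs.toXSub.sq hperp r hzr hxr h5 h1 e
      (mem_centralizer_one.1 he.2).symm (mem_centralizer_one.1 he.1.2).symm
      (mem_centralizer_one.1 (coreAt_le x he.1.1)).symm ?_
    have e4 : e ^ 4 = e * e * (e * e) := by rw [show (4 : ℕ) = 2 + 2 from rfl, pow_add, pow_two]
    rw [e4]
    rcases Rx.xs.toXSub.sq_cases he.1.1 with h | h <;> rw [h]
    · rw [one_mul]
    · exact Rx.xs.toXSub.sq
  have O : Orth (coreAt z) z (coreAt x) x := ⟨Rz.xs, Rx.xs, hx, hzx, hne⟩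
  have := Rz.five_elem r hzr h5 h1 W hWJ fun w hw =>
    ⟨by rw [← pow_two]; exact O.elementary.2 w ⟨hWJ hw, hw.1.1⟩, (mem_centralizer_one.1 hw.1.2).symm⟩
  omega

/-- A member in the core of another lies in its fixed plane. -/
theorem mem_T (R : Red z₀) (hz : z ∈ cls z₀) (hx : x ∈ cls z₀) (Rz : Red z) (hxJ : x ∈ coreAt z) (hne : x ≠ z) :
    x ∈ Rz.T := by
  by_contra hxT
  have hzx : z ∈ coreAt x := mem_symm R hz hx hxJ hne
  have hX := Rz.xs.toXSub
  have hxx : x * x = 1 := (R.atMem hx).xs.toXSub.sq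
  have O : Orth (coreAt z) z (coreAt x) x := ⟨Rz.xs, (R.atMem hx).xs, hxJ, hzx, hne⟩
  obtain ⟨g, h, hg, hh, hga, hha, hgh⟩ := Rz.two x hxJ hxT hxx
  have hin : ∀ k : G, Commute z k → k * x * k⁻¹ ∈ coreAt z := fun k hk =>
    LargeExtra.conj_mem (coreAt_normal z (mem_centralizer_one.2 hk.eq.symm)) hxJ
  obtain ⟨k, k', hk, hk', hkx, hk'x, hkk, hkJ⟩ : ∃ k k' : G, Commute z k ∧ Commute z k' ∧
      Commute x (k * x * k⁻¹) ∧ Commute x (k' * x * k'⁻¹) ∧ ¬ Commute (k * x * k⁻¹) (k' * x * k'⁻¹) ∧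
      k * x * k⁻¹ ∉ coreAt x := by
    by_cases h1 : g * x * g⁻¹ ∈ coreAt x
    · refine ⟨h, g, hh, hg, hha, hga, fun c => hgh c.symm, fun h2 => hgh ?_⟩
      exact congrArg Subtype.val (O.elementary.1.is_comm.comm ⟨_, hin g hg, h1⟩ ⟨_, hin h hh, h2⟩)
    · exact ⟨g, h, hg, hh, hga, hha, hgh, h1⟩
  set y := k * x * k⁻¹ with hy
  have hyD : y ∈ cls z₀ := cls_conj hx k
  have hyJ : y ∈ coreAt z := hin k hk
  have hu : x * y ∈ cls z₀ := star (R.atMem hx) (R.atMem hyD) hx hkx hkJ
  have huJ : x * y ∈ coreAt z := mul_mem hxJ hyJ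
  have huT : x * y ∉ Rz.T := by
    intro hT
    apply hkk
    have hyeq : y = x * (x * y) := by rw [← mul_assoc, hxx, one_mul]
    have hxu : Commute x (x * y) := (Commute.refl x).mul_right hkx
    have h1 : Commute x (k'⁻¹ * (x * y) * k'⁻¹⁻¹) := by
      rcases Rz.T_fix _ hT k'⁻¹ hk'.inv_right with e | e <;> rw [e]
      exacts [hxu, hxu.mul_right (hX.comm hxJ)]
    have h2 : Commute (k' * x * k'⁻¹) (x * y) := by
      simpa [mul_assoc] using h1.map (MulAut.conj k')
    rw [hyeq]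
    exact (hk'x.mul_left h2.symm)
  have hperp : ∀ t ∈ Rz.T, Commute t (x * y) := by
    intro t ht
    have htJ := Rz.T_le ht
    obtain ⟨ε, hε, e⟩ : ∃ ε, (ε = 1 ∨ ε = z) ∧ t * x * t⁻¹ = x * ε := by
      rcases hX.conj_cases htJ hxJ with e | e
      exacts [⟨1, Or.inl rfl, by rw [e, mul_one]⟩, ⟨z, Or.inr rfl, e⟩]
    have hεc : ∀ q ∈ coreAt z, Commute q ε := fun q hq => by
      rcases hε with rfl | rfl
      exacts [Commute.one_right q, hX.comm hq]
    have hεk : k * ε * k⁻¹ = ε := by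
      rcases hε with rfl | rfl
      · group
      · rw [← hk.eq, mul_inv_cancel_right]
    have e2 : t * y * t⁻¹ = y * ε := by
      have key : (k⁻¹ * t * k) * x * (k⁻¹ * t * k)⁻¹ = x * ε := by
        rcases Rz.T_fix t ht k⁻¹ hk.inv_right with h | h <;> rw [inv_inv] at h <;> rw [h]
        · exact e
        · rw [show t * z * x * (t * z)⁻¹ = t * (z * x * z⁻¹) * t⁻¹ by group, ← hX.comm hxJ, mul_inv_cancel_right, e]
      calc t * y * t⁻¹ = k * ((k⁻¹ * t * k) * x * (k⁻¹ * t * k)⁻¹) * k⁻¹ := by rw [hy]; group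
        _ = k * x * k⁻¹ * (k * ε * k⁻¹) := by rw [key]; group
        _ = y * ε := by rw [hεk, hy]
    refine mul_inv_eq_iff_eq_mul.1 ?_
    have hεε : ε * ε = 1 := by rcases hε with rfl | rfl; exacts [one_mul 1, hX.sq]
    rw [show t * (x * y) * t⁻¹ = (t * x * t⁻¹) * (t * y * t⁻¹) by group, e, e2,
      show x * ε * (y * ε) = x * (ε * y) * ε by group, ← (hεc y hyJ).eq,
      show x * (y * ε) * ε = x * y * (ε * ε) by group, hεε, mul_one]
  have hune : x * y ≠ z := fun h' => huT (h' ▸ Rz.z_mem)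
  exact not_perp Rz (R.atMem hu) huJ (mem_symm R hz hu huJ hune) hune huT hperp

/-- No member lies in the core of another. -/
theorem weak (R : Red z₀) (hz : z ∈ cls z₀) (hx : x ∈ cls z₀) (hxJ : x ∈ coreAt z) : x = z := by
  by_contra hne
  obtain ⟨Rz, -⟩ : ∃ Rz : Red z, Rz = R.atMem hz := ⟨_, rfl⟩
  obtain ⟨Rx, -⟩ : ∃ Rx : Red x, Rx = R.atMem hx := ⟨_, rfl⟩
  have hzx : z ∈ coreAt x := mem_symm R hz hx hxJ hne
  have hxT := mem_T R hz hx Rz hxJ hne
  have hzT := mem_T R hx hz Rx hzx (Ne.symm hne)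
  have hcz : Commute z x := (Rz.xs.toXSub.comm hxJ).symm
  obtain ⟨a, haJ, b, hbJ, hax, hbx, hab⟩ := Rz.xs.toXSub.exists_noncomm (by rw [Rz.card]; norm_num) hxJ
  set P := (coreAt z ⊓ centralizer ({x} : Set G)) ⊔ coreAt x with hP
  have hCx : coreAt z ⊓ centralizer ({x} : Set G) ≤ centralizer ({x} : Set G) := inf_le_right
  have hP2 : IsPGroup 2 P := IsPGroup.to_sup_of_normal_right' ((coreAt_isPGroup z).to_le inf_le_left)
    (coreAt_isPGroup x) (hCx.trans (coreAt_normal x))
  have hfix : ∀ g : G, Commute g z → Commute g x → g ∈ normalizer (P : Set G) := by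
    intro g hgz hgx
    have h1 : g ∈ normalizer ((coreAt z ⊓ centralizer ({x} : Set G) : Subgroup G) : Set G) := by
      refine mem_normalizer_iff.2 fun q => ?_
      have hn := mem_normalizer_iff.1 (coreAt_normal z (mem_centralizer_one.2 hgz.eq)) q
      refine and_congr hn ?_
      change q ∈ centralizer ({x} : Set G) ↔ g * q * g⁻¹ ∈ centralizer ({x} : Set G)
      rw [mem_centralizer_one, mem_centralizer_one]
      constructor
      · intro h
        have := (show Commute q x from h).map (MulAut.conj g)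
        rw [MulAut.conj_apply, MulAut.conj_apply, hgx.eq, mul_inv_cancel_right] at this
        exact this
      · intro h
        have := (show Commute (g * q * g⁻¹) x from h).map (MulAut.conj g⁻¹)
        simp only [MulAut.conj_apply, inv_inv] at this
        rwa [show g⁻¹ * (g * q * g⁻¹) * g = q by group,
          show g⁻¹ * x * g = x by rw [hgx.inv_left.eq, inv_mul_cancel_right]] at this
    exact normalizer_inf_normalizer_le_normalizer_sup _ _ ⟨h1, coreAt_normal x (mem_centralizer_one.2 hgx.eq)⟩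
  have hPn : centralizer ({x} : Set G) ≤ normalizer (P : Set G) := by
    intro g hg
    have hgx : Commute g x := mem_centralizer_one.1 hg
    rcases Rx.T_fix z hzT g hgx.symm with e | e
    · exact hfix g (mul_inv_eq_iff_eq_mul.1 e) hgx
    · obtain ⟨q, hq, eq⟩ := Rx.xs.toXSub.exists_conj hzx Rz.xs.toXSub.ne_one (Ne.symm hne)
      have hqx : Commute q x := Rx.xs.toXSub.comm hq
      rw [show g = q * (q⁻¹ * g) by group]
      refine mul_mem (le_normalizer (mem_sup_right hq)) (hfix _ (mul_inv_eq_iff_eq_mul.1 ?_) (hqx.inv_left.mul_left hgx))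
      rw [show q⁻¹ * g * z * (q⁻¹ * g)⁻¹ = q⁻¹ * (g * z * g⁻¹) * q by group, e, ← eq]
      group
  have hPC : P ≤ centralizer ({x} : Set G) := sup_le hCx (coreAt_le x)
  have hsub := le_coreAt hP2 hPC hPn
  have ha : a ∈ coreAt x := hsub (mem_sup_left ⟨haJ, mem_centralizer_one.2 hax⟩)
  have hb : b ∈ coreAt x := hsub (mem_sup_left ⟨hbJ, mem_centralizer_one.2 hbx⟩)
  have O : Orth (coreAt z) z (coreAt x) x := ⟨Rz.xs, Rx.xs, hxJ, hzx, hne⟩
  have hc : Commute a b :=
    congrArg Subtype.val (O.elementary.1.is_comm.comm ⟨a, haJ, ha⟩ ⟨b, hbJ, hb⟩)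
  rw [hc.eq, mul_inv_cancel_right] at hab
  exact Rz.xs.toXSub.ne_mul_z b hab

/-- The commutators of a commuting member with the core have no square one, outside the centre. -/
theorem no_inv (R : Red z₀) (hz : z ∈ cls z₀) (hx : x ∈ cls z₀) (hc : Commute z x) :
    ∀ a ∈ coreAt z, ⁅x, a⁆ * ⁅x, a⁆ = 1 → ⁅x, a⁆ ∈ zpowers z := by
  intro a ha h2
  set c := ⁅x, a⁆ with hcdef
  by_contra hcz
  obtain ⟨Rx, -⟩ : ∃ Rx : Red x, Rx = R.atMem hx := ⟨_, rfl⟩
  have hxx := Rx.xs.toXSub.sq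
  have hxi := Rx.xs.toXSub.inv_eq
  have hcJ : c ∈ coreAt z := by
    rw [hcdef, commutatorElement_def]
    exact mul_mem (LargeExtra.conj_mem (coreAt_normal z (mem_centralizer_one.2 hc.eq.symm)) ha) (inv_mem ha)
  have e : a * x * a⁻¹ = x * c := by
    rw [hcdef, commutatorElement_def, hxi]
    simp only [← mul_assoc, hxx, one_mul]
  have hinv : x * c * x = c := by
    calc x * c * x = c⁻¹ := by
          rw [hcdef, commutatorElement_def, hxi]
          simp only [mul_inv_rev, inv_inv, hxi, ← mul_assoc, hxx, one_mul]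
      _ = c := inv_eq_of_mul_eq_one_right h2
  have hD : a * x * a⁻¹ ∈ cls z₀ := cls_conj hx a
  have hne : a * x * a⁻¹ ≠ x := fun h => hcz (by rw [e] at h; rw [mul_eq_left.1 h]; exact one_mem _)
  have hcm : Commute x (a * x * a⁻¹) := by
    rw [e]
    show x * (x * c) = x * c * x
    rw [hinv, ← mul_assoc, hxx, one_mul]
  have h1 : a * x * a⁻¹ ∉ coreAt x := fun h => hne (weak R hx hD h)
  have h3 := star Rx (R.atMem hD) hx hcm h1
  rw [e, ← mul_assoc, hxx, one_mul] at h3
  exact hcz (by rw [weak R hz h3 hcJ]; exact mem_zpowers z)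

/-- The involution commutes with no other conjugate. -/
theorem isolated (R : Red z₀) (g : G) (hc : Commute z₀ (g * z₀ * g⁻¹)) : g * z₀ * g⁻¹ = z₀ := by
  set x := g * z₀ * g⁻¹ with hxdef
  by_contra hne
  have hz : z₀ ∈ cls z₀ := ⟨1, by simp⟩
  have hx : x ∈ cls z₀ := ⟨g, rfl⟩
  obtain ⟨Rx, -⟩ : ∃ Rx : Red x, Rx = R.atMem hx := ⟨_, rfl⟩
  have h1 : x ∉ coreAt z₀ := fun h => hne (weak R hz hx h)
  have h2 : z₀ ∉ coreAt x := fun h => hne (weak R hx hz h).symm
  obtain ⟨⟨w, hw, hxw, hww⟩, -⟩ := R.wit x hc Rx.xs.toXSub.sq h1 (no_inv R hz hx hc)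
  refine (Rx.wit z₀ hc.symm R.xs.toXSub.sq h2 (no_inv R hx hz hc.symm)).2 w hxw ?_
  rw [hww, R.xs.toXSub.sq]
  exact one_mem _

end Cfsg.Agent.U62Rec.Red
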