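import Cfsg.Agent.Lib.U62Rec.Red.Defs
import Cfsg.Agent.Lib.U62Rec.Red.Planes
import Mathlib.GroupTheory.GroupAction.Quotient
import Mathlib.GroupTheory.Perm.Cycle.Type

/-!
The local facts from the hypotheses with a fixed vector.
-/

set_option autoImplicit false
set_option linter.style.haveILetI false
set_option linter.unusedSectionVars false
set_option maxRecDepth 20000

namespace Cfsg.Agent.U62Rec.Model

open Subgroup LargeExtra Forced
open scoped commutatorElement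

/-- The place which is zero. -/
def zeroAt (c : C3) : Fin 3 := if c 0 = none then 0 else if c 1 = none then 1 else 2

/-- The singular coordinates. -/
def singC : Finset C3 := Finset.univ.filter fun c => qC c = 0 ∧ c ≠ fun _ => none

theorem shift_conn : ∀ c ∈ singC, ∀ d ∈ singC, zeroAt c = zeroAt d → ∃ k : K3, shC k c = d := by
  decide +kernel

theorem class_card : ∀ T : Finset (Fin 3), T.Nonempty →
    (singC.filter fun d => zeroAt d ∈ T).card = 9 ∨ (singC.filter fun d => zeroAt d ∈ T).card = 18 ∨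
      (singC.filter fun d => zeroAt d ∈ T).card = 27 := by
  decide +kernel

theorem shift_qC : ∀ (k : K3) (c : C3), qC (shC k c) = qC c := fun k c => by
  have key : ∀ (o : Option (ZMod 3)) (d : ZMod 3), q1 (o.map (· + d)) = q1 o := by decide
  simp [qC, shC, key]

theorem two_table : ∀ c : C3, (c ≠ fun _ => none) →
    (∃ k ∈ [((1 : ZMod 3), (0 : ZMod 3), (0 : ZMod 3)), (0, 1, 0), (0, 0, 1), (1, 1, 0), (1, 0, 1), (0, 1, 1),
        (2, 0, 0), (0, 2, 0), (0, 0, 2), (1, 2, 0), (1, 0, 2), (0, 1, 2), (2, 1, 0), (2, 0, 1), (0, 2, 1),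
        (1, 1, 1), (1, 1, 2), (1, 2, 1), (2, 1, 1), (2, 2, 1), (2, 1, 2), (1, 2, 2), (2, 2, 2), (2, 2, 0),
        (2, 0, 2), (0, 2, 2)],
      ∃ l ∈ [((1 : ZMod 3), (0 : ZMod 3), (0 : ZMod 3)), (0, 1, 0), (0, 0, 1), (1, 1, 0), (1, 0, 1), (0, 1, 1),
        (2, 0, 0), (0, 2, 0), (0, 0, 2), (1, 2, 0), (1, 0, 2), (0, 1, 2), (2, 1, 0), (2, 0, 1), (0, 2, 1),
        (1, 1, 1), (1, 1, 2), (1, 2, 1), (2, 1, 1), (2, 2, 1), (2, 1, 2), (1, 2, 2), (2, 2, 2), (2, 2, 0),
        (2, 0, 2), (0, 2, 2)],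
      bC c (shC k c) = 0 ∧ bC c (shC l c) = 0 ∧ bC (shC k c) (shC l c) = 1) ∨
    ∃ i a, c = oneC i (some a) := by
  decide +kernel

theorem one_table : ∀ (i : Fin 3) (a b : ZMod 3), bC (oneC i (some a)) (oneC (i + 1) (some b)) = 0 ∧
    bC (oneC i (some a)) (shC (1, 0, 0) (oneC (i + 1) (some b))) = 0 ∧
    bC (oneC (i + 1) (some b)) (shC (1, 0, 0) (oneC (i + 1) (some b))) = 1 := by
  decide +kernel

namespace Space

universe u

variable {G : Type u} [Group G] [Finite G] {z : G} {V : Type u} [AddCommGroup V] {S : Space z V}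
  {u : Fin 3 → V} (P : Planes S u)

include P

/-- An element of order five fixing a singular vector of the three planes. -/
theorem Planes.exists_five {v : V} (hv : v ∈ P.perp) (h0 : v ≠ 0) (hq : S.q v = 0) :
    ∃ x : Cfsg.PSp 2 (ZMod 3), orderOf x = 5 ∧ S.ρ x v = v := by
  classical
  haveI := S.finite
  haveI : Fact (Nat.Prime 5) := ⟨by norm_num⟩
  letI : MulAction (Cfsg.PSp 2 (ZMod 3)) V :=
    { smul := fun x w => S.ρ x w
      one_smul := fun w => by show S.ρ 1 w = w; rw [map_one]; rfl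
      mul_smul := fun x y w => by show S.ρ (x * y) w = S.ρ x (S.ρ y w); rw [map_mul]; rfl }
  have hsm : ∀ (x : Cfsg.PSp 2 (ZMod 3)) (w : V), x • w = S.ρ x w := fun _ _ => rfl
  obtain ⟨c, rfl⟩ := P.mem_perp.1 hv
  have hc : c ∈ singC := by
    simp only [singC, Finset.mem_filter, Finset.mem_univ, true_and]
    exact ⟨by rw [← P.q_psi]; exact hq, fun e => h0 (by rw [e]; exact P.psi_none)⟩
  let O : Finset C3 := Finset.univ.filter fun d => ∃ x, S.ρ x (S.psi u c) = S.psi u d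
  have hcO : c ∈ O := by
    simp only [O, Finset.mem_filter, Finset.mem_univ, true_and]
    exact ⟨1, by rw [map_one]; rfl⟩
  have hO : ∀ d, d ∈ O → d ∈ singC := fun d hd => by
    simp only [O, Finset.mem_filter, Finset.mem_univ, true_and] at hd
    obtain ⟨x, hx⟩ := hd
    simp only [singC, Finset.mem_filter, Finset.mem_univ, true_and]
    refine ⟨by rw [← P.q_psi, ← hx, S.q_inv]; exact hq, fun e => h0 ?_⟩
    rw [e, P.psi_none] at hx
    have := congrArg (S.ρ x⁻¹) hx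
    rwa [S.ρ_inv, map_zero] at this
  have hshift : ∀ d ∈ O, ∀ k, shC k d ∈ O := fun d hd k => by
    simp only [O, Finset.mem_filter, Finset.mem_univ, true_and] at hd ⊢
    obtain ⟨x, hx⟩ := hd
    exact ⟨exG k * x, by rw [map_mul]; show S.ρ (exG k) (S.ρ x _) = _; rw [hx, ← S.eps_eq, P.eps_psi]⟩
  have hfill : O = singC.filter fun d => zeroAt d ∈ O.image zeroAt := by
    ext d
    simp only [Finset.mem_filter, Finset.mem_image]
    refine ⟨fun hd => ⟨hO d hd, d, hd, rfl⟩, fun ⟨hd, e, he, hz⟩ => ?_⟩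
    obtain ⟨k, hk⟩ := shift_conn e (hO e he) d hd hz
    exact hk ▸ hshift e he k
  have horb : MulAction.orbit (Cfsg.PSp 2 (ZMod 3)) (S.psi u c) = S.psi u '' (O : Set C3) := by
    ext w
    simp only [MulAction.mem_orbit_iff, hsm, Set.mem_image, O, Finset.coe_filter, Finset.mem_univ, true_and,
      Set.mem_ofPred_eq]
    refine ⟨fun ⟨x, hx⟩ => ?_, fun ⟨d, ⟨x, hx⟩, e⟩ => ⟨x, hx.trans e⟩⟩
    obtain ⟨d, hd⟩ := P.mem_perp.1 (P.perp_inv x hv)
    exact ⟨d, ⟨x, hd.symm⟩, hd.trans hx⟩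
  set K := MulAction.stabilizer (Cfsg.PSp 2 (ZMod 3)) (S.psi u c) with hK
  have hidx : K.index = O.card := by
    rw [hK, MulAction.index_stabilizer, horb, Set.ncard_image_of_injective _ P.psi_inj, Set.ncard_coe_finset]
  have hcard := K.card_mul_index
  rw [hidx, card_X, hfill] at hcard
  have h5 : 5 ∣ Nat.card K := by
    rcases class_card (O.image zeroAt) ⟨_, Finset.mem_image_of_mem _ hcO⟩ with h | h | h <;> rw [h] at hcard <;>
      omega
  obtain ⟨x, hx⟩ := exists_prime_orderOf_dvd_card' 5 h5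
  exact ⟨x, by rwa [orderOf_coe], MulAction.mem_stabilizer_iff.1 x.2⟩

/-- The fixed vectors in the planes of an element of order five. -/
theorem Planes.card_fix_five {x : Cfsg.PSp 2 (ZMod 3)} (hx : x ^ 5 = 1) (h1 : x ≠ 1) :
    Nat.card ↥(P.perp ⊓ S.fixS x) = 4 := by
  haveI := S.finite
  haveI : Fact (Nat.Prime 5) := ⟨by norm_num⟩
  have h := S.fixed_mod 5 1 x (by rwa [pow_one]) P.perp fun v hv => P.perp_inv x hv
  have hdvd := AddSubgroup.card_dvd_of_le (inf_le_left : P.perp ⊓ S.fixS x ≤ P.perp)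
  rw [P.card_perp] at h hdvd
  have hne : Nat.card ↥(P.perp ⊓ S.fixS x) ≠ 64 := by
    intro h64
    have hle := AddSubgroup.eq_of_le_of_card_ge (inf_le_left : P.perp ⊓ S.fixS x ≤ P.perp)
      (by rw [h64, P.card_perp])
    refine h1 (S.ρ_inj ((DFunLike.ext _ _ fun v => ?_).trans (map_one S.ρ).symm))
    obtain ⟨c, w, hw, rfl⟩ := P.decomp v
    have hc : S.psi u c ∈ P.perp ⊓ S.fixS x := hle.symm ▸ P.mem_perp.2 ⟨c, rfl⟩
    rw [map_add, P.fix_zero x w hw, S.mem_fixS.1 hc.2]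
    rfl
  obtain ⟨k, hk, e⟩ := (Nat.dvd_prime_pow Nat.prime_two).1 (show _ ∣ 2 ^ 6 from hdvd)
  rw [e] at h hne ⊢
  rw [Nat.ModEq] at h
  interval_cases k <;> simp_all

/-- The fixed vectors of an element are spanned by the fixed plane and those in the three planes. -/
theorem Planes.card_fix (x : Cfsg.PSp 2 (ZMod 3)) :
    Nat.card ↥(S.fixS x) = 4 * Nat.card ↥(P.perp ⊓ S.fixS x) := by
  haveI := S.finite
  let f : ↥(U S.gen 0) × ↥(P.perp ⊓ S.fixS x) → ↥(S.fixS x) := fun p =>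
    ⟨p.1 + p.2, (S.fixS x).add_mem (P.fix_zero x _ p.1.2) p.2.2.2⟩
  rw [← P.card_zero, ← Nat.card_prod]
  refine (Nat.card_congr (Equiv.ofBijective f ⟨fun a b h => ?_, fun v => ?_⟩)).symm
  · have h' : (a.1 : V) + a.2 = b.1 + b.2 := congrArg Subtype.val h
    obtain ⟨c, hc⟩ := P.mem_perp.1 a.2.2.1
    obtain ⟨d, hd⟩ := P.mem_perp.1 b.2.2.1
    have h2 := @P.combine_bij.1 (c, a.1) (d, b.1) (by
      show S.psi u c + _ = S.psi u d + _
      rw [hc, hd, add_comm, h', add_comm])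
    simp only [Prod.mk.injEq] at h2
    exact Prod.ext h2.2 (Subtype.ext (by rw [← hc, ← hd, h2.1]))
  · obtain ⟨c, w, hw, e⟩ := P.decomp (v : V)
    have hfix : S.ρ x (S.psi u c) = S.psi u c := by
      have h := v.2
      rw [S.mem_fixS, e, map_add, P.fix_zero x w hw] at h
      exact add_right_cancel h
    exact ⟨⟨⟨w, hw⟩, ⟨_, P.mem_perp.2 ⟨c, rfl⟩, hfix⟩⟩, Subtype.ext ((add_comm _ _).trans e.symm)⟩

/-- The sum over the powers of an element of order five. -/
theorem Planes.average {x : Cfsg.PSp 2 (ZMod 3)} (hx : x ^ 5 = 1) :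
    ∃ av : V →+ V, (∀ w ∈ P.perp, av w ∈ P.perp ⊓ S.fixS x) ∧ (∀ f ∈ S.fixS x, av f = f) ∧
      (∀ f ∈ S.fixS x, ∀ w, S.B f (av w) = S.B f w) ∧ ∀ w, av (S.ρ x w) = av w := by
  let r := S.ρ x
  refine ⟨(1 + r + r * r + r * r * r + r * r * r * r : AddMonoid.End V), ?_, ?_, ?_, ?_⟩
  all_goals
    have h5 : ∀ w, r (r (r (r (r w)))) = w := fun w => by
      show (r * r * r * r * r) w = w
      rw [show r * r * r * r * r = S.ρ (x ^ 5) by simp [r, pow_succ], hx, map_one]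
      rfl
  · intro w hw
    have hr : ∀ y ∈ P.perp, r y ∈ P.perp := fun y hy => P.perp_inv x hy
    refine ⟨?_, ?_⟩
    · show w + r w + r (r w) + r (r (r w)) + r (r (r (r w))) ∈ P.perp
      exact add_mem (add_mem (add_mem (add_mem hw (hr _ hw)) (hr _ (hr _ hw))) (hr _ (hr _ (hr _ hw))))
        (hr _ (hr _ (hr _ (hr _ hw))))
    · show r (w + r w + r (r w) + r (r (r w)) + r (r (r (r w)))) =
        w + r w + r (r w) + r (r (r w)) + r (r (r (r w)))
      simp only [map_add, h5]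
      abel
  · intro f hf
    have hf' : r f = f := hf
    show f + r f + r (r f) + r (r (r f)) + r (r (r (r f))) = f
    simp only [hf']
    rw [S.six.three_eq, add_assoc, S.char, add_zero]
  · intro f hf w
    have hf' : r f = f := hf
    have hB : ∀ y, S.B f (r y) = S.B f y := fun y => by
      conv_lhs => rw [← hf']
      exact S.B_inv x f y
    show S.B f (w + r w + r (r w) + r (r (r w)) + r (r (r (r w)))) = S.B f w
    simp only [S.B_add, hB]
    rw [two_zero, zero_add, add_assoc, two_zero, add_zero]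
  · intro w
    show r w + r (r w) + r (r (r w)) + r (r (r (r w))) + r (r (r (r (r w)))) =
      w + r w + r (r w) + r (r (r w)) + r (r (r (r w)))
    rw [h5]
    abel

set_option maxHeartbeats 800000 in
/-- A two-element centralizing an element of order five and a singular fixed vector is trivial. -/
theorem Planes.two_triv {x y : Cfsg.PSp 2 (ZMod 3)} (hx : x ^ 5 = 1) (h1 : x ≠ 1) (hy : y ^ 4 = 1)
    (hxy : Commute x y) {v : V} (hv : v ∈ P.perp) (h0 : v ≠ 0) (hq : S.q v = 0)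
    (hxv : S.ρ x v = v) (hyv : S.ρ y v = v) : y = 1 := by
  haveI := S.finite
  haveI : Fact (Nat.Prime 5) := ⟨by norm_num⟩
  obtain ⟨av, avP, avF, avB, avr⟩ := P.average hx
  have hcomm : ∀ w, S.ρ x (S.ρ y w) = S.ρ y (S.ρ x w) := fun w => by
    show (S.ρ x * S.ρ y) w = (S.ρ y * S.ρ x) w
    rw [← map_mul, ← map_mul, hxy.eq]
  set F := P.perp ⊓ S.fixS x with hFdef
  -- the fixed part
  obtain ⟨f, hfF, hvf⟩ : ∃ f ∈ F, S.B v f ≠ 0 := by
    obtain ⟨w, hw⟩ := S.hnd v h0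
    obtain ⟨c, w', hw', rfl⟩ := P.decomp w
    refine ⟨av (S.psi u c), avP _ (P.mem_perp.2 ⟨c, rfl⟩), ?_⟩
    rw [S.B_add, S.B_symm v w', hv w' hw', add_zero] at hw
    rwa [avB v hxv]
  have hB1 : S.B v f = 1 := (z2_cases _).resolve_left hvf
  have hfne : f ≠ 0 := fun e => hvf (by rw [e, S.B_zero])
  have hfv : f ≠ v := fun e => hvf (by rw [e, S.B_self])
  have hFset : (F : Set V) = {0, v, f, v + f} := by
    refine (Set.eq_of_subset_of_ncard_le ?_ ?_).symm
    · rintro w (rfl | rfl | rfl | rfl)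
      exacts [F.zero_mem, ⟨hv, hxv⟩, hfF, F.add_mem ⟨hv, hxv⟩ hfF]
    · have h4 : (F : Set V).ncard = 4 := P.card_fix_five hx h1
      have e3 : v + f ≠ 0 := fun e => hfv (by rw [add_eq_zero_iff_eq_neg, S.neg_eq] at e; exact e.symm)
      rw [h4, Set.ncard_insert_of_notMem (by simp [Ne.symm h0, Ne.symm hfne, Ne.symm e3]),
        Set.ncard_insert_of_notMem (by simp [Ne.symm hfv, hfne]), Set.ncard_pair (by simp [h0])]
  have hyF : ∀ w ∈ F, S.ρ y w ∈ F := fun w hw => ⟨P.perp_inv y hw.1, by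
    show S.ρ x (S.ρ y w) = S.ρ y w
    rw [hcomm, S.mem_fixS.1 hw.2]⟩
  have hfixF : ∀ w ∈ F, S.ρ y w = w := by
    obtain ⟨f₁, hf₁, hB₁, hq₁, huniq⟩ : ∃ f₁ ∈ F, S.B v f₁ = 1 ∧ S.q f₁ = 0 ∧
        ∀ w ∈ F, S.B v w = 1 → S.q w = 0 → w = f₁ := by
      have hqvf : S.q (v + f) = S.q f + 1 := by rw [S.hq, hq, zero_add, hB1]
      have mem : ∀ w ∈ F, w = 0 ∨ w = v ∨ w = f ∨ w = v + f := fun w hw => by
        have : w ∈ (F : Set V) := hw
        rw [hFset] at this
        exact this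
      rcases z2_cases (S.q f) with e | e
      · refine ⟨f, hfF, hB1, e, fun w hw hb hw0 => ?_⟩
        rcases mem w hw with rfl | rfl | rfl | rfl
        · rw [S.B_zero] at hb; exact absurd hb (by decide)
        · rw [S.B_self] at hb; exact absurd hb (by decide)
        · rfl
        · rw [hqvf, e] at hw0; exact absurd hw0 (by decide)
      · refine ⟨v + f, F.add_mem ⟨hv, hxv⟩ hfF, by rw [S.B_add, S.B_self, hB1, zero_add],
          by rw [hqvf, e]; decide, fun w hw hb hw0 => ?_⟩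
        rcases mem w hw with rfl | rfl | rfl | rfl
        · rw [S.B_zero] at hb; exact absurd hb (by decide)
        · rw [S.B_self] at hb; exact absurd hb (by decide)
        · rw [e] at hw0; exact absurd hw0 (by decide)
        · rfl
    have hy₁ : S.ρ y f₁ = f₁ := huniq _ (hyF _ hf₁)
      (by nth_rw 1 [← hyv]; rw [S.B_inv, hB₁]) (by rw [S.q_inv, hq₁])
    intro w hw
    have : w ∈ (F : Set V) := hw
    rw [hFset] at this
    have hff : S.ρ y f = f := by
      rcases z2_cases (S.q f) with e | e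
      · rw [huniq f hfF hB1 e]; exact hy₁
      · have : v + f = f₁ := huniq _ (F.add_mem ⟨hv, hxv⟩ hfF) (by rw [S.B_add, S.B_self, hB1, zero_add])
          (by rw [S.hq, hq, zero_add, hB1, e]; decide)
        rw [← this, map_add, hyv] at hy₁
        exact add_left_cancel hy₁
    rcases this with rfl | rfl | rfl | rfl
    exacts [map_zero _, hyv, hff, by rw [map_add, hyv, hff]]
  -- the moved part
  set W := P.perp ⊓ AddMonoidHom.ker (av : V →+ V) with hWdef
  have hav : ∀ {w}, w ∈ W → av w = 0 := fun hw => AddMonoidHom.mem_ker.1 hw.2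
  have hyy : ∀ w, S.ρ y (S.ρ y (S.ρ y (S.ρ y w))) = w := fun w => by
    show (S.ρ y * S.ρ y * S.ρ y * S.ρ y) w = w
    rw [← map_mul, ← map_mul, ← map_mul, show y * y * y * y = y ^ 4 by simp [pow_succ], hy, map_one]
    rfl
  have hWx : ∀ w ∈ W, S.ρ x w ∈ W := fun w hw =>
    ⟨P.perp_inv x hw.1, AddMonoidHom.mem_ker.2 ((avr w).trans (hav hw))⟩
  have hWy : ∀ w ∈ W, S.ρ y w ∈ W := fun w hw => by
    refine ⟨P.perp_inv y hw.1, AddMonoidHom.mem_ker.2 ?_⟩
    have hF' : av (S.ρ y w) ∈ F := avP _ (P.perp_inv y hw.1)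
    show av (S.ρ y w) = 0
    by_contra hne
    obtain ⟨c, w', hw', e⟩ := P.decomp (av (S.ρ y w))
    obtain ⟨g, hg, hb⟩ : ∃ g ∈ F, S.B (av (S.ρ y w)) g ≠ 0 := by
      obtain ⟨t, ht⟩ := S.hnd _ hne
      obtain ⟨d, t', ht', rfl⟩ := P.decomp t
      refine ⟨av (S.psi u d), avP _ (P.mem_perp.2 ⟨d, rfl⟩), ?_⟩
      rw [S.B_add, S.B_symm _ t', hF'.1 t' ht', add_zero] at ht
      rwa [avB _ hF'.2]
    apply hb
    rw [S.B_symm, avB g hg.2, ← hfixF g hg, S.B_inv, ← avB g hg.2, hav hw, S.B_zero]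
  have hWfix : W ⊓ S.fixS x = ⊥ := by
    refine (AddSubgroup.eq_bot_iff_forall _).2 fun w hw => ?_
    rw [← avF w hw.2]
    exact hav hw.1
  have hx5 : x ^ 5 ^ 1 = 1 := by rw [Nat.pow_one]; exact hx
  have hW5 : Nat.card ↥W ≡ Nat.card ↥(W ⊓ S.fixS x) [MOD 5] := S.fixed_mod 5 1 x hx5 W hWx
  rw [hWfix, AddSubgroup.card_bot] at hW5
  set M := W ⊓ S.fixS y with hMdef
  have hMx : ∀ w ∈ M, S.ρ x w ∈ M := fun w hw => ⟨hWx w hw.1, by
    show S.ρ y (S.ρ x w) = S.ρ x w
    rw [← hcomm, S.mem_fixS.1 hw.2]⟩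
  have hM5 : Nat.card ↥M ≡ Nat.card ↥(M ⊓ S.fixS x) [MOD 5] := S.fixed_mod 5 1 x hx5 M hMx
  rw [show M ⊓ S.fixS x = ⊥ from le_bot_iff.1 (hWfix ▸ inf_le_inf_right _ inf_le_left),
    AddSubgroup.card_bot] at hM5
  have hM2 := @fixed_mod _ _ _ _ _ _ S 2 ⟨Nat.prime_two⟩ 2 y (show y ^ 2 ^ 2 = 1 by rw [show (2 : ℕ) ^ 2 = 4 from rfl]; exact hy) W hWy
  have hWM : W ≤ M := by
    obtain ⟨k, hk, ek⟩ := (Nat.dvd_prime_pow Nat.prime_two).1
      (show Nat.card ↥W ∣ 2 ^ 6 by
        have hd := AddSubgroup.card_dvd_of_le (inf_le_left : W ≤ P.perp)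
        rw [P.card_perp] at hd
        exact hd)
    obtain ⟨l, hl, el⟩ := (Nat.dvd_prime_pow Nat.prime_two).1
      (show Nat.card ↥M ∣ 2 ^ k from ek ▸ AddSubgroup.card_dvd_of_le (inf_le_left : M ≤ W))
    refine (AddSubgroup.eq_of_le_of_card_ge (inf_le_left : M ≤ W) ?_).ge
    rw [← hMdef] at hM2
    rw [ek] at hW5 hM2
    rw [el] at hM5 hM2
    rw [ek, el]
    have key : ∀ n < 7, 2 ^ n % 5 = 1 % 5 → n = 0 ∨ n = 4 := by decide
    rcases key k (by omega) hW5 with rfl | rfl <;> rcases key l (by omega) hM5 with rfl | rfl <;>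
      first | exact le_rfl | exact absurd hM2 (by decide)
  refine S.ρ_inj ((DFunLike.ext _ _ fun w => ?_).trans (map_one S.ρ).symm)
  obtain ⟨c, w', hw', rfl⟩ := P.decomp w
  have hp : S.psi u c ∈ P.perp := P.mem_perp.2 ⟨c, rfl⟩
  have hres : S.psi u c + av (S.psi u c) ∈ W :=
    ⟨P.perp.add_mem hp (avP _ hp).1, AddMonoidHom.mem_ker.2 (by rw [map_add, avF _ (avP _ hp).2, S.char])⟩
  have h2 : S.ρ y (S.psi u c + av (S.psi u c)) = S.psi u c + av (S.psi u c) := (hWM hres).2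
  rw [map_add, hfixF _ (avP _ hp)] at h2
  rw [map_add, add_right_cancel h2, P.fix_zero y w' hw']
  rfl

/-- Two images orthogonal to a vector outside the fixed plane and not to each other. -/
theorem Planes.exists_pair {v : V} (hv : v ∉ U S.gen 0) :
    ∃ x y, S.B v (S.ρ x v) = 0 ∧ S.B v (S.ρ y v) = 0 ∧ S.B (S.ρ x v) (S.ρ y v) = 1 := by
  obtain ⟨c, w, hw, rfl⟩ := P.decomp v
  have hc : c ≠ fun _ => none := fun e => hv (by rw [e, P.psi_none, zero_add]; exact hw)
  have himg : ∀ k, S.ρ (exG k) (S.psi u c + w) = S.psi u (shC k c) + w := fun k => by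
    rw [map_add, P.fix_zero _ w hw, ← S.eps_eq, P.eps_psi]
  rcases two_table c hc with ⟨k, -, l, -, h1, h2, h3⟩ | ⟨i, a, rfl⟩
  · refine ⟨exG k, exG l, ?_, ?_, ?_⟩ <;> simp only [himg, P.B_full hw hw, S.B_self, add_zero] <;> assumption
  · obtain ⟨wd, -, hwd, hf⟩ := word_table i (i + 1)
    obtain ⟨hm, hne⟩ := S.six.inU_word hwd (P.pt_mem i (some a))
    have hm' : InU S.gen (lineF (4 + (i + 1 : Fin 3))) (ev S.gen wd (S.pt u i (some a))) := by
      rcases hf with h | h <;> rw [h] at hm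
      exacts [hm, S.six.U_neg _ hm]
    obtain ⟨o, ho⟩ := P.pt_surj (i + 1) hm'
    obtain ⟨b, rfl⟩ : ∃ b, o = some b := by
      cases o with
      | none => exact absurd (hne ho.symm) (P.pt_ne i a)
      | some b => exact ⟨b, rfl⟩
    obtain ⟨h1, h2, h3⟩ := one_table i a b
    have hx : S.ρ (wd.map gx).prod (S.psi u (oneC i (some a)) + w) = S.psi u (oneC (i + 1) (some b)) + w := by
      rw [map_add, P.fix_zero _ w hw, P.psi_one, P.psi_one, ho, S.ev_eq_ρ]
    have hy : S.ρ (exG (1, 0, 0) * (wd.map gx).prod) (S.psi u (oneC i (some a)) + w) =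
        S.psi u (shC (1, 0, 0) (oneC (i + 1) (some b))) + w := by
      rw [map_mul]
      show S.ρ _ (S.ρ _ _) = _
      rw [hx, map_add, P.fix_zero _ w hw, ← S.eps_eq, P.eps_psi]
    refine ⟨(wd.map gx).prod, exG (1, 0, 0) * (wd.map gx).prod, ?_, ?_, ?_⟩ <;> simp only [hx, hy, P.B_full hw hw, S.B_self, add_zero] <;> assumption

end Space

end Cfsg.Agent.U62Rec.Model
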